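import Cfsg.Agent.MitchellThree.Socle
import Cfsg.Agent.PGroups.Bicyclic.Facts

/-!
Groups with bicyclic Sylow 2-subgroups and no solvable normal subgroup have a simple socle.
-/

set_option autoImplicit false
set_option linter.unusedSectionVars false
set_option linter.style.haveILetI false

namespace Cfsg.Lib.CyclicZFactor

open Subgroup Cfsg.Lib.MitchellThree

universe u

/-- the image in the Frattini quotient of a two-generated 2-group has at most four elements -/
theorem card_quot_le_four {S : Type u} [Group S] [Finite S] (hS : IsPGroup 2 S) {x y : S}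
    (h : Bicyclic.Gen x y) : Nat.card (S ⧸ frattini S) ≤ 4 := by
  haveI : Fact (Nat.Prime 2) := ⟨Nat.prime_two⟩
  classical
  have hq : ∀ (g : S) (i : ℤ), (g : S ⧸ frattini S) ^ i = 1 ∨ (g : S ⧸ frattini S) ^ i = g := by
    intro g i
    have h2 : (g : S ⧸ frattini S) ^ 2 = 1 := by
      rw [← QuotientGroup.mk_pow]
      exact (QuotientGroup.eq_one_iff _).2 (PGroups.pow_mem_frattini hS g)
    rcases Int.even_or_odd' i with ⟨w, rfl | rfl⟩
    · exact Or.inl (by rw [zpow_mul, zpow_ofNat, h2, one_zpow])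
    · exact Or.inr (by rw [zpow_add, zpow_mul, zpow_ofNat, h2, one_zpow, one_mul, zpow_one])
  refine (Nat.card_le_card_of_surjective
    (fun u : ({1, (x : S ⧸ frattini S), (y : S ⧸ frattini S), (x : S ⧸ frattini S) * y} :
      Finset (S ⧸ frattini S)) => (u : S ⧸ frattini S)) (fun q => ?_)).trans ?_
  · obtain ⟨g, rfl⟩ := QuotientGroup.mk_surjective q
    obtain ⟨i, j, rfl⟩ := h g
    refine ⟨⟨((x ^ i * y ^ j : S) : S ⧸ frattini S), ?_⟩, rfl⟩
    rw [QuotientGroup.mk_mul, QuotientGroup.mk_zpow, QuotientGroup.mk_zpow]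
    rcases hq x i with e | e <;> rcases hq y j with e' | e' <;> rw [e, e'] <;> simp
  · rw [Nat.card_eq_finsetCard]
    exact Finset.card_le_four

/-- a bicyclic 2-group has no elementary abelian subgroup of order sixteen -/
theorem elementary_le_eight {S : Type u} [Group S] [Finite S] (hS : IsPGroup 2 S) {x y : S}
    (h : Bicyclic.Gen x y) (E : Subgroup S) (hsq : ∀ g ∈ E, g ^ 2 = 1) : Nat.card E ≤ 8 := by
  haveI : Fact (Nat.Prime 2) := ⟨Nat.prime_two⟩
  set π := QuotientGroup.mk' (frattini S)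
  have hcard := card_quot_le_four hS h
  have hmul : Nat.card (E ⊓ frattini S : Subgroup S) * Nat.card (E.map π) = Nat.card E := by
    have e1 := (π.comp E.subtype).ker.card_mul_index
    rw [Subgroup.index_ker, MonoidHom.range_comp, Subgroup.range_subtype] at e1
    rw [← e1]
    congr 1
    have : (π.comp E.subtype).ker = (E ⊓ frattini S).subgroupOf E := by
      ext g
      simp [π, Subgroup.mem_subgroupOf]
    rw [this]
    exact (Nat.card_congr (Subgroup.subgroupOfEquivOfLe (inf_le_left : E ⊓ frattini S ≤ E)).toEquiv).symm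
  have h1 : Nat.card (E ⊓ frattini S : Subgroup S) ≤ 4 :=
    h.card_le_four hS inf_le_right fun g hg => hsq g hg.1
  have h2 : Nat.card (E.map π) ≤ Nat.card (S ⧸ frattini S) :=
    Nat.card_le_card_of_injective _ Subtype.val_injective
  by_cases hlt : Nat.card (E.map π) ≤ 2
  · calc Nat.card E = Nat.card (E ⊓ frattini S : Subgroup S) * Nat.card (E.map π) := hmul.symm
      _ ≤ 4 * 2 := Nat.mul_le_mul h1 hlt
  · -- otherwise `E` covers the Frattini quotient and so is everything
    have hdvd : Nat.card (E.map π) ∣ Nat.card (S ⧸ frattini S) := card_subgroup_dvd_card _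
    obtain ⟨n, hn⟩ := hS.index (frattini S)
    rw [Subgroup.index_eq_card] at hn
    rw [hn] at hdvd hcard
    obtain ⟨k, hk, hk'⟩ := (Nat.dvd_prime_pow Nat.prime_two).1 hdvd
    have hk2 : 2 ≤ k := by
      by_contra hc
      refine hlt ?_
      rw [hk']
      exact (Nat.pow_le_pow_right two_pos (by omega : k ≤ 1)).trans (by norm_num)
    have hn2 : n ≤ 2 := (Nat.pow_le_pow_iff_right (by norm_num)).1 (hcard.trans (by norm_num : 4 ≤ 2 ^ 2))
    have htop : E.map π = ⊤ := eq_top_of_card_eq _ (by rw [hk', hn]; congr 1; omega)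
    have hE : E ⊔ frattini S = ⊤ := by
      have := congrArg (Subgroup.comap π) htop
      rwa [Subgroup.comap_map_eq, Subgroup.comap_top, QuotientGroup.ker_mk'] at this
    have hEt : E = ⊤ := frattini_nongenerating hE
    have hsq' : ∀ g : S, g ^ 2 = 1 := fun g => hsq g (hEt ▸ mem_top g)
    have h3 : Nat.card S ≤ 4 := by
      have hb : frattini S = ⊥ := Cfsg.Lib.Elementary.frattini_eq_bot_of_sq hsq'
      have := card_quot_le_four hS h
      rw [← Subgroup.index_eq_card, hb, Subgroup.index_bot] at this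
      exact this
    have := Subgroup.card_le_card_group E
    omega

variable {G : Type u} [Group G] [Finite G]

theorem exists_elementary_four {N : Subgroup G} [Nontrivial N] (hN : NoSol ↥N) :
    ∃ E : Subgroup G, E ≤ N ∧ (∀ e ∈ E, e * e = 1) ∧ Nat.card E = 4 := by
  obtain ⟨E, hE⟩ := hN.exists_klein
  haveI := hE
  refine ⟨E.map N.subtype, map_subtype_le E, ?_, ?_⟩
  · rintro _ ⟨e, he, rfl⟩
    show (e : G) * e = 1
    exact congrArg (fun a : N => (a : G)) (congrArg Subtype.val (IsKleinFour.mul_self (⟨e, he⟩ : E)))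
  · rw [card_map_of_injective N.subtype_injective, IsKleinFour.card_four]

/-- In 2-rank at most three a normal subgroup has trivial centralizer. -/
theorem centralizer_eq_bot (hG : NoSol G) (h3 : Cfsg.PRankLE 2 3 G) (N : Subgroup G) [N.Normal]
    (hN : N ≠ ⊥) : centralizer (N : Set G) = ⊥ := by
  by_contra hC
  haveI : Nontrivial N := (nontrivial_iff_ne_bot N).2 hN
  haveI : Nontrivial (centralizer (N : Set G)) := (nontrivial_iff_ne_bot _).2 hC
  obtain ⟨E, hEN, hE2, hE4⟩ := exists_elementary_four (hG.normal N)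
  obtain ⟨V, hVC, hV2, hV4⟩ := exists_elementary_four (hG.normal (centralizer (N : Set G)))
  have hdis : ∀ g : G, g ∈ N → g ∈ centralizer (N : Set G) → g = 1 := by
    intro g hg hc
    have hmem : (⟨g, hg⟩ : N) ∈ center N :=
      mem_center_iff.2 fun n => Subtype.ext (mem_centralizer_iff.1 hc n n.2)
    rw [(hG.normal N).center_eq_bot, mem_bot] at hmem
    exact congrArg Subtype.val hmem
  have hcm : ∀ a ∈ E, ∀ b ∈ V, a * b = b * a := fun a ha b hb => mem_centralizer_iff.1 (hVC hb) a (hEN ha)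
  have hab : ∀ {W : Subgroup G}, (∀ e ∈ W, e * e = 1) → ∀ a ∈ W, ∀ b ∈ W, a * b = b * a := by
    intro W hW a ha b hb
    calc a * b = (a * b)⁻¹ := (inv_eq_of_mul_eq_one_right (hW _ (mul_mem ha hb))).symm
      _ = b⁻¹ * a⁻¹ := mul_inv_rev a b
      _ = b * a := by rw [inv_eq_of_mul_eq_one_right (hW b hb), inv_eq_of_mul_eq_one_right (hW a ha)]
  let f : E × V →* G :=
    MonoidHom.mk' (fun p => (p.1 : G) * p.2) fun p q => by
      show ((p.1 : G) * q.1) * ((p.2 : G) * q.2) = (p.1 : G) * p.2 * ((q.1 : G) * q.2)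
      rw [mul_assoc, ← mul_assoc (q.1 : G), hcm _ q.1.2 _ p.2.2]
      group
  have hf : Function.Injective f := by
    rw [injective_iff_map_eq_one]
    rintro ⟨a, b⟩ h
    change (a : G) * b = 1 at h
    have ha : (a : G) = 1 := hdis a (hEN a.2) (by
      rw [eq_inv_of_mul_eq_one_left h]
      exact inv_mem (hVC b.2))
    rw [ha, one_mul] at h
    exact Prod.ext (Subtype.ext ha) (Subtype.ext h)
  have := h3 f.range ⟨⟨?_⟩⟩ ?_
  · rw [← Nat.card_congr (MonoidHom.ofInjective hf).toEquiv, Nat.card_prod, hE4, hV4] at this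
    omega
  · rintro ⟨_, p, rfl⟩ ⟨_, q, rfl⟩
    refine Subtype.ext ?_
    show f p * f q = f q * f p
    rw [← map_mul, ← map_mul]
    congr 1
    exact Prod.ext (Subtype.ext (hab hE2 _ p.1.2 _ q.1.2)) (Subtype.ext (hab hV2 _ p.2.2 _ q.2.2))
  · rintro _ ⟨p, rfl⟩
    rw [← map_pow, show p ^ 2 = 1 from Prod.ext (Subtype.ext (by simpa [pow_two] using hE2 _ p.1.2))
      (Subtype.ext (by simpa [pow_two] using hV2 _ p.2.2)), map_one]

/-- The socle. -/
theorem exists_socle (hG : NoSol G) (h3 : Cfsg.PRankLE 2 3 G) [Nontrivial G] :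
    ∃ L : Subgroup G, L.Normal ∧ IsSimpleGroup L ∧ ¬ IsMulCommutative L ∧ centralizer (L : Set G) = ⊥ := by
  obtain ⟨L, -, hLn, hLb, hmin⟩ :=
    Cfsg.Lib.Coprime.exists_minimal_normal (K := (⊤ : Subgroup G)) inferInstance top_ne_bot
  haveI := hLn
  haveI : Nontrivial L := (nontrivial_iff_ne_bot L).2 hLb
  have hL := hG.normal L
  have hL3 : Cfsg.PRankLE 2 3 L := rankLE_of_injective L.subtype L.subtype_injective h3
  obtain ⟨N, -, hNn, hNb, hNmin⟩ :=
    Cfsg.Lib.Coprime.exists_minimal_normal (K := (⊤ : Subgroup L)) inferInstance top_ne_bot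
  haveI := hNn
  have hle : ∀ K : Subgroup L, K.Normal → K ≠ ⊥ → N ≤ K := fun K hK hKb => by
    haveI := hK
    rcases hNmin (N ⊓ K) inferInstance inf_le_left with e | e
    · refine absurd (eq_bot_iff.2 ?_) hKb
      rw [← centralizer_eq_bot hL hL3 N hNb]
      intro k hk
      exact mem_centralizer_iff.2 fun n hn =>
        (commute_of_normal_of_disjoint N K hNn hK (disjoint_iff.2 e) n k hn hk).eq
    · exact e ▸ inf_le_right
  haveI : N.Characteristic := characteristic_iff_le_map.2 fun φ =>
    hle _ (hNn.map _ φ.surjective) fun e => hNb ((map_eq_bot_iff_of_injective _ φ.injective).1 e)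
  have hNtop : N = ⊤ := by
    have hn : (N.map L.subtype).Normal := inferInstance
    have he := (hmin _ hn (map_subtype_le _)).resolve_left fun e =>
      hNb ((map_eq_bot_iff_of_injective _ L.subtype_injective).1 e)
    exact eq_top_iff.2 fun m _ => (mem_map_iff_mem L.subtype_injective).1 (he.symm ▸ m.2)
  refine ⟨L, hLn, ⟨fun K hK => or_iff_not_imp_left.2 fun hKb => top_le_iff.1 (hNtop ▸ hle K hK hKb)⟩, ?_,
    centralizer_eq_bot hG h3 L hLb⟩
  intro hc
  exact top_ne_bot (α := Subgroup L)
    (hL ⊤ inferInstance (Group.isSolvable_of_comm fun a b => Subtype.ext (hc.is_comm.comm (a : L) b)))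

end Cfsg.Lib.CyclicZFactor
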