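import Cfsg.Agent.CyclicZFactor.Recognise
import Cfsg.Agent.CyclicZFactor.Socle
import Cfsg.Agent.Classical.Misc.PSLBounds

/-!
A group `AB` with `A` cyclic and `B` a Z-group is `PGL(2, p)` over its solvable radical, unless solvable.
-/

set_option autoImplicit false
set_option linter.unusedSectionVars false
set_option linter.style.haveILetI false

namespace Cfsg.Lib.CyclicZFactor

open Subgroup Cfsg.Lib.MitchellThree
open scoped MatrixGroups

universe u

variable {Q : Type u} [Group Q] [Finite Q] {A B : Subgroup Q}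

theorem disj_of_noSol (hQ : NoSol Q) (hc : IsCyclic A) (hz : IsZGroup B)
    (hprod : ∀ g : Q, ∃ a ∈ A, ∃ b ∈ B, g = a * b) : A ⊓ B = ⊥ := by
  letI : CommGroup A := IsCyclic.commGroup
  haveI := hz
  have hle : normalClosure ((A ⊓ B : Subgroup Q) : Set Q) ≤ B := by
    refine closure_le _ |>.2 ?_
    intro y hy
    obtain ⟨x, hx, hxy⟩ := Group.mem_conjugatesOfSet_iff.1 hy
    obtain ⟨c, rfl⟩ := isConj_iff.1 hxy
    obtain ⟨a, ha, b, hb, hab⟩ := hprod c⁻¹
    have hcomm : a⁻¹ * x * a = x := by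
      have := congrArg Subtype.val (mul_comm (⟨x, hx.1⟩ : A) ⟨a, ha⟩)
      simp only [Subgroup.coe_mul] at this
      rw [mul_assoc, this, inv_mul_cancel_left]
    rw [show c = b⁻¹ * a⁻¹ by rw [← mul_inv_rev, ← hab, inv_inv]]
    show b⁻¹ * a⁻¹ * x * (b⁻¹ * a⁻¹)⁻¹ ∈ B
    rw [show b⁻¹ * a⁻¹ * x * (b⁻¹ * a⁻¹)⁻¹ = b⁻¹ * (a⁻¹ * x * a) * b by group, hcomm]
    exact mul_mem (mul_mem (inv_mem hb) hx.2) hb
  haveI : Group.IsSolvable B := inferInstance
  have hs := Group.isSolvable_of_isSolvable_injective (f := Subgroup.inclusion hle) (Subgroup.inclusion_injective hle)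
  have h := hQ _ inferInstance hs
  exact eq_bot_iff.2 fun x hx => h ▸ subset_normalClosure hx

theorem Pre.rank_le_three (P : Pre A B) : Cfsg.PRankLE 2 3 Q := by
  haveI : Fact (Nat.Prime 2) := ⟨Nat.prime_two⟩
  obtain ⟨S, a, b, haS, hbS, -, -, -, -, hgen⟩ := P.exists_sylow
  intro E hE hsq
  have hEp : IsPGroup 2 E := fun e => ⟨1, Subtype.ext (by simpa using hsq e e.2)⟩
  obtain ⟨g, hg⟩ := Fusion.exists_conj_le_sylow S hEp
  have hle : E.map (MulAut.conj g).toMonoidHom ≤ (S : Subgroup Q) := by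
    rintro _ ⟨e, he, rfl⟩; exact hg e he
  have hG : Bicyclic.Gen (⟨a, haS⟩ : ↥(S : Subgroup Q)) ⟨b, hbS⟩ := fun s => by
    obtain ⟨i, j, h⟩ := hgen s s.2
    exact ⟨i, j, Subtype.ext (by simpa using h)⟩
  have h := elementary_le_eight S.2 hG ((E.map (MulAut.conj g).toMonoidHom).subgroupOf S) (by
    rintro ⟨_, hx⟩ ⟨e, he, rfl⟩
    apply Subtype.ext
    show (MulAut.conj g e) ^ 2 = 1
    rw [← map_pow, hsq e he, map_one])
  rw [Nat.card_congr (subgroupOfEquivOfLe hle).toEquiv, card_map_of_injective (MulAut.conj g).injective] at h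
  exact h

/-- The socle is `PSL(2, p)` of index two. -/
theorem exists_socle_psl [Nontrivial Q] (hQ : NoSol Q) (hc : IsCyclic A) (hz : IsZGroup B)
    (hprod : ∀ g : Q, ∃ a ∈ A, ∃ b ∈ B, g = a * b) :
    ∃ (N : Subgroup Q) (p : ℕ) (_ : Fact p.Prime), 3 < p ∧ N.Normal ∧ centralizer (N : Set Q) = ⊥ ∧
      N.index = 2 ∧ Nonempty (↥N ≃* Matrix.ProjectiveSpecialLinearGroup (Fin 2) (ZMod p)) := by
  have hd := disj_of_noSol hQ hc hz hprod
  have h3 := (Pre.mk hc hz hprod hd).rank_le_three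
  obtain ⟨N, hNn, hNs, hna, hcent⟩ := exists_socle hQ h3
  haveI := hNn
  set X := N ⊔ B with hX
  set eN : ↥(N.subgroupOf X) ≃* ↥N := subgroupOfEquivOfLe le_sup_left
  haveI := hNs
  have hFac : Fac (N.subgroupOf X) (A.subgroupOf X) (B.subgroupOf X) := by
    haveI := hc
    haveI := hz
    refine ⟨inferInstance, MulEquiv.isSimpleGroup eN,
      fun h => hna ⟨⟨fun u v => eN.symm.injective (by rw [map_mul, map_mul]; exact h.is_comm.comm _ _)⟩⟩,
      ?_, ?_, ?_, ?_, ?_, ?_⟩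
    · refine eq_bot_iff.2 fun x hx => ?_
      have : (x : Q) ∈ centralizer (N : Set Q) := mem_centralizer_iff.2 fun n hn =>
        congrArg Subtype.val (mem_centralizer_iff.1 hx ⟨n, mem_sup_left hn⟩ hn)
      rw [hcent, mem_bot] at this
      exact mem_bot.2 (Subtype.ext this)
    · exact isCyclic_of_injective
        ((MonoidHom.mk' (fun x => (⟨x.1.1, x.2⟩ : A)) fun _ _ => rfl : A.subgroupOf X →* A))
        fun x y h => Subtype.ext (Subtype.ext (congrArg Subtype.val h :))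
    · exact IsZGroup.of_injective
        (f := (MonoidHom.mk' (fun x => (⟨x.1.1, x.2⟩ : B)) fun _ _ => rfl : B.subgroupOf X →* B))
        fun x y h => Subtype.ext (Subtype.ext (congrArg Subtype.val h :))
    · intro g
      obtain ⟨a, ha, b, hb, hab⟩ := hprod g
      have hbX : b ∈ X := mem_sup_right hb
      have haX : a ∈ X := by
        have : a = g * b⁻¹ := by rw [hab, mul_inv_cancel_right]
        exact this ▸ mul_mem g.2 (inv_mem hbX)
      exact ⟨⟨a, haX⟩, ha, ⟨b, hbX⟩, hb, Subtype.ext hab⟩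
    · intro g
      obtain ⟨n, hn, b, hb, h⟩ := mem_sup_of_normal_left.1 g.2
      exact ⟨⟨n, mem_sup_left hn⟩, hn, ⟨b, mem_sup_right hb⟩, hb, Subtype.ext h.symm⟩
    · refine eq_bot_iff.2 fun x hx => ?_
      have : (x : Q) ∈ A ⊓ B := hx
      rw [hd, mem_bot] at this
      exact mem_bot.2 (Subtype.ext this)
  obtain ⟨Y⟩ := exists_sys hFac
  obtain ⟨p, hp, hp3, ⟨e⟩, hi⟩ := Y.exists_psl
  let e' := eN.symm.trans e
  refine ⟨N, p, hp, hp3, hNn, hcent, ?_, ⟨e'⟩⟩
  have h := SemiCyclic.index_dvd_two_of_psl N e'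
  rw [hcent, sup_bot_eq] at h
  refine Nat.dvd_antisymm h ?_
  rw [← hi, show (N.subgroupOf X).index = N.relIndex X from rfl]
  exact relIndex_dvd_index_of_normal _ _

/-- An almost simple group over `PSL(2, p)` of index two with faithful action is `PGL(2, p)`. -/
theorem exists_pgl_equiv {p : ℕ} [Fact p.Prime] (hp2 : p ≠ 2) (N : Subgroup Q) [N.Normal]
    (hcent : centralizer (N : Set Q) = ⊥) (hi : N.index = 2)
    (e : ↥N ≃* Matrix.ProjectiveSpecialLinearGroup (Fin 2) (ZMod p)) :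
    Nonempty (Q ≃* (GL (Fin 2) (ZMod p) ⧸ center (GL (Fin 2) (ZMod p)))) := by
  classical
  open Known.AutPSL2 in
  let ψ : GL (Fin 2) (ZMod p) →* MulAut (Matrix.ProjectiveSpecialLinearGroup (Fin 2) (ZMod p)) :=
    liftPSL.comp conjSL
  have hker : center (GL (Fin 2) (ZMod p)) ≤ ψ.ker := fun z hz => by
    refine MonoidHom.mem_ker.2 ?_
    show Known.AutPSL2.liftPSL (Known.AutPSL2.conjSL z) = 1
    rw [show Known.AutPSL2.conjSL z = 1 from MulEquiv.ext fun M => Subtype.ext ?_, map_one]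
    rw [Known.AutPSL2.coe_conjSL]
    have h : z * Matrix.SpecialLinearGroup.toGL M = Matrix.SpecialLinearGroup.toGL M * z := (mem_center_iff.1 hz _).symm
    have h' := congrArg (fun g : GL (Fin 2) (ZMod p) => (g : Matrix (Fin 2) (Fin 2) (ZMod p))) h
    simp only [Units.val_mul] at h'
    rw [show (M : Matrix (Fin 2) (Fin 2) (ZMod p)) =
      ((Matrix.SpecialLinearGroup.toGL M : GL (Fin 2) (ZMod p)) : Matrix (Fin 2) (Fin 2) (ZMod p)) from rfl, h',
      mul_assoc, ← Units.val_mul, mul_inv_cancel, Units.val_one, mul_one]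
    rfl
  let ψ' := QuotientGroup.lift _ ψ hker
  have hψ' : Function.Surjective ψ' := fun α => by
    obtain ⟨g, hg⟩ := SemiCyclic.aut_PSL2_prime α
    exact ⟨g, hg.symm⟩
  let χ : Q →* MulAut (Matrix.ProjectiveSpecialLinearGroup (Fin 2) (ZMod p)) :=
    (MulAut.congr e).toMonoidHom.comp (MulAut.conjNormal : Q →* MulAut ↥N)
  have hχ : Function.Injective χ := (injective_iff_map_eq_one _).2 fun x hx => by
    have h1 : (MulAut.conjNormal x : MulAut ↥N) = 1 := (EmbeddingLike.map_eq_one_iff (f := MulAut.congr e)).1 hx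
    have hx' : x ∈ centralizer (N : Set Q) := mem_centralizer_iff.2 fun n hn => by
      have h2 := congrArg Subtype.val (DFunLike.congr_fun h1 (⟨n, hn⟩ : ↥N))
      rw [MulAut.conjNormal_apply, MulAut.one_apply, mul_inv_eq_iff_eq_mul] at h2
      exact h2.symm
    rwa [hcent, mem_bot] at hx'
  have hcard : Nat.card (GL (Fin 2) (ZMod p) ⧸ center (GL (Fin 2) (ZMod p))) = Nat.card Q := by
    have h1 := Cfsg.Lib.Classical.SmallPSL.card_psl (F := ZMod p) (ZMod.card p)
    obtain ⟨k, hk⟩ := (Fact.out : p.Prime).odd_of_ne_two hp2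
    rw [Nat.gcd_eq_left (⟨k, by omega⟩ : 2 ∣ p - 1)] at h1
    have h2 := Classical.PSLBounds.card_pgl_two (K := ZMod p)
    rw [ZMod.card] at h2
    rw [show Nat.card (GL (Fin 2) (ZMod p) ⧸ center (GL (Fin 2) (ZMod p))) = p * (p ^ 2 - 1) from h2,
      ← N.card_mul_index, hi, Nat.card_congr e.toEquiv, ← h1, mul_comm 2]
  haveI : Finite (MulAut (Matrix.ProjectiveSpecialLinearGroup (Fin 2) (ZMod p))) := Finite.of_surjective _ hψ'
  have hle1 := Nat.card_le_card_of_injective _ hχ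
  have hle2 := Nat.card_le_card_of_surjective _ hψ'
  have hbχ : Function.Bijective χ := (Nat.bijective_iff_injective_and_card _).2 ⟨hχ, by omega⟩
  have hbψ : Function.Bijective ψ' := (Nat.bijective_iff_surjective_and_card _).2 ⟨hψ', by omega⟩
  exact ⟨(MulEquiv.ofBijective χ hbχ).trans (MulEquiv.ofBijective ψ' hbψ).symm⟩

/-- **A non-solvable product of a cyclic group and a Z-group.** -/
theorem main {G : Type u} [Group G] [Finite G] (hG : ¬ Group.IsSolvable G) (A B : Subgroup G) (hA : IsCyclic ↥A)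
    (hB : ∀ (q : ℕ) [Fact q.Prime] (Q : Sylow q ↥B), IsCyclic ↥(Q : Subgroup ↥B))
    (hAB : ∀ g : G, ∃ a ∈ A, ∃ b ∈ B, g = a * b) (R : Subgroup G) [hR : R.Normal] (hRs : Group.IsSolvable ↥R)
    (hRmax : ∀ N : Subgroup G, N.Normal → Group.IsSolvable ↥N → N ≤ R) :
    ∃ (p : ℕ) (_ : Fact p.Prime), 3 < p ∧
      Nonempty ((G ⧸ R) ≃* (GL (Fin 2) (ZMod p) ⧸ center (GL (Fin 2) (ZMod p)))) := by
  haveI := hRs
  set π := QuotientGroup.mk' R with hπ
  have hsol : ∀ M : Subgroup (G ⧸ R), Group.IsSolvable M → Group.IsSolvable ↥(M.comap π) := fun M hM => by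
    haveI := hM
    refine Group.isSolvable_of_ker_le_range (G' := ↥R) (G'' := ↥M)
      (Subgroup.inclusion (fun x hx => by
        show π x ∈ M
        rw [show π x = 1 from (QuotientGroup.eq_one_iff x).2 hx]
        exact one_mem M))
      (π.subgroupComap M) fun x hx => ?_
    have h1 : (x : G) ∈ R := (QuotientGroup.eq_one_iff _).1 (congrArg Subtype.val (MonoidHom.mem_ker.1 hx))
    exact ⟨⟨x, h1⟩, Subtype.ext rfl⟩
  have hQ : NoSol (G ⧸ R) := fun M hM hMs => by
    have h := hRmax (M.comap π) (hM.comap π) (hsol M hMs)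
    refine eq_bot_iff.2 fun q hq => ?_
    obtain ⟨g, rfl⟩ := QuotientGroup.mk'_surjective R q
    exact mem_bot.2 ((QuotientGroup.eq_one_iff g).2 (h hq))
  haveI : Nontrivial (G ⧸ R) := by
    refine QuotientGroup.nontrivial_iff.2 fun h => hG ?_
    rw [h] at hRs
    exact Group.isSolvable_of_surjective (f := (Subgroup.topEquiv (G := G)).toMonoidHom) Subgroup.topEquiv.surjective
  haveI := hA
  haveI hz : IsZGroup B := ⟨fun q hq P => by haveI : Fact q.Prime := ⟨hq⟩; exact hB q P⟩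
  have hc' : IsCyclic (A.map π) := isCyclic_of_surjective _ (π.subgroupMap_surjective A)
  have hz' : IsZGroup (B.map π) := IsZGroup.of_surjective (π.subgroupMap_surjective B)
  have hprod : ∀ g : G ⧸ R, ∃ a ∈ A.map π, ∃ b ∈ B.map π, g = a * b := fun g => by
    obtain ⟨g, rfl⟩ := QuotientGroup.mk'_surjective R g
    obtain ⟨a, ha, b, hb, rfl⟩ := hAB g
    exact ⟨_, mem_map_of_mem π ha, _, mem_map_of_mem π hb, map_mul π a b⟩
  obtain ⟨N, p, hp, hp3, hNn, hcent, hi, ⟨e⟩⟩ := exists_socle_psl hQ hc' hz' hprod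
  haveI := hNn
  exact ⟨p, hp, hp3, exists_pgl_equiv (by omega) N hcent hi e⟩

end Cfsg.Lib.CyclicZFactor
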