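import Cfsg.Agent.CyclicZFactor.RankTwo.Main
import Cfsg.Agent.S0483
import Cfsg.Agent.SolvStruct.AltAut
import Cfsg.Agent.Known.AltSpectrum
import Cfsg.Agent.Known.AutPSL2
import Cfsg.Agent.Known.SLTwo.Spectrum
import Cfsg.Agent.Classical.Misc.SmallPSL
import Cfsg.Agent.PrimePowerOrders.Arith
import Cfsg.Agent.SemiCyclic.Reduce.Aut

/-!
`N` is `PSL(2, p)` and has index two.
-/

set_option autoImplicit false
set_option linter.unusedSectionVars false
set_option linter.style.haveILetI false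

namespace Cfsg.Lib.CyclicZFactor

open Subgroup

universe u

/-- A Z-group with bounded element orders is small. -/
theorem zgroup_card_le {K : Type u} [Group K] [Finite K] [IsZGroup K] (M : ℕ) (h : ∀ x : K, orderOf x ≤ M) :
    Nat.card K ≤ M * M := by
  rw [card_eq_card_quotient_mul_card_subgroup (commutator K)]
  refine Nat.mul_le_mul ?_ ?_
  · obtain ⟨q, hq⟩ := (IsZGroup.isCyclic_abelianization (G := K)).exists_ofOrder_eq_natCard
    obtain ⟨x, rfl⟩ := QuotientGroup.mk_surjective q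
    refine le_trans (le_of_eq hq.symm) ?_
    exact (Nat.le_of_dvd (orderOf_pos x) (orderOf_map_dvd (QuotientGroup.mk' (commutator K)) x)).trans (h x)
  · haveI := IsZGroup.isCyclic_commutator (G := K)
    obtain ⟨c, hc⟩ := IsCyclic.exists_ofOrder_eq_natCard (α := commutator K)
    rw [← hc, ← Subgroup.orderOf_coe]
    exact h _

/-- Element orders in the symmetric group of degree seven. -/
theorem orderOf_perm_seven_le (σ : Equiv.Perm (Fin 7)) : orderOf σ ≤ 12 := by
  obtain ⟨M, hs, ha, hl⟩ := (Known.AltSpec.mem_perm_iff 7 _).1 ⟨σ, rfl⟩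
  obtain ⟨L, hL, rfl⟩ := Known.AltSpec.exists_parts 7 7 M
    (fun a h => ⟨ha a h, (Multiset.le_sum_of_mem h).trans hs⟩) hs
  rw [← hl]
  have key : ∀ L ∈ Known.AltSpec.parts 7 7, L.sum ≤ 7 → (L : Multiset ℕ).lcm ≤ 12 := by decide +kernel
  exact key L hL (by simpa using hs)

variable {G : Type u} [Group G] [Finite G] {N A B : Subgroup G}

theorem Fac.oddCore_eq_bot (F : Fac N A B) : Cfsg.oddCore ↥N = ⊥ := by
  haveI := F.simple
  refine (IsSimpleGroup.eq_bot_or_eq_top_of_normal _ inferInstance).resolve_right fun h => ?_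
  refine F.not_solvable (Cfsg.Agent.PF.isSolvable_of_odd _ ?_)
  have := ZStarApps.odd_card_pPrimeCore (G := ↥N)
  rwa [show Cfsg.pPrimeCore 2 ↥N = ⊤ from h, Subgroup.card_top] at this

/-- The action on `N` is faithful. -/
theorem Fac.eq_one_of_conjNormal (F : Fac N A B) {x : G}
    (h : haveI := F.normal; (MulAut.conjNormal x : MulAut ↥N) = 1) : x = 1 := by
  haveI := F.normal
  have hx : x ∈ centralizer (N : Set G) := mem_centralizer_iff.2 fun n hn => by
    have h1 := congrArg Subtype.val (DFunLike.congr_fun h (⟨n, hn⟩ : ↥N))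
    rw [MulAut.conjNormal_apply, MulAut.one_apply, mul_inv_eq_iff_eq_mul] at h1
    exact h1.symm
  rwa [F.cent, mem_bot] at hx

namespace Sys

variable (Y : Sys N A B)

include Y in
theorem two_dvd_index : 2 ∣ N.index := by
  have h : N ≤ Y.ε.ker := fun n hn => Y.εN n hn
  have h2 : Y.ε.ker.index = 2 := by
    rw [Subgroup.index_ker, MonoidHom.range_eq_top.2 fun u => ?_, Subgroup.card_top, Nat.card_eq_fintype_card,
      Fintype.card_units_int]
    rcases Int.units_eq_one_or u with rfl | rfl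
    · exact ⟨1, map_one _⟩
    · exact ⟨Y.a, Y.εa⟩
  exact h2 ▸ Subgroup.index_dvd_of_le h

include Y in
theorem not_alt_seven (e : ↥N ≃* alternatingGroup (Fin 7)) : False := by
  haveI := Y.fac.normal
  let c := MulEquiv.ofBijective _ (SolvStruct.AltAut.conjNormal_bijective (n := 7) (by norm_num) (by norm_num))
  let ψ : G →* Equiv.Perm (Fin 7) :=
    c.symm.toMonoidHom.comp ((MulAut.congr e).toMonoidHom.comp (MulAut.conjNormal : G →* MulAut ↥N))
  have hψ : Function.Injective ψ := (injective_iff_map_eq_one _).2 fun x hx => by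
    refine Y.fac.eq_one_of_conjNormal ?_
    have := (EmbeddingLike.map_eq_one_iff (f := c.symm)).1 hx
    exact (EmbeddingLike.map_eq_one_iff (f := MulAut.congr e)).1 this
  have hord : ∀ x : G, orderOf x ≤ 12 := fun x => by
    rw [← orderOf_injective ψ hψ]
    exact orderOf_perm_seven_le _
  haveI := Y.fac.cyc
  haveI := Y.fac.zg
  have hA : Nat.card A ≤ 12 := by
    obtain ⟨a, ha⟩ := IsCyclic.exists_ofOrder_eq_natCard (α := A)
    rw [← ha, ← Subgroup.orderOf_coe]
    exact hord _
  have hB : Nat.card B ≤ 12 * 12 := zgroup_card_le 12 fun x => by rw [← Subgroup.orderOf_coe]; exact hord _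
  have hN : Nat.card N = 2520 := by
    rw [Nat.card_congr e.toEquiv, nat_card_alternatingGroup, Nat.card_fin]
    rfl
  have h := N.card_mul_index
  rw [hN, Y.fac.card_eq] at h
  have h2 := Nat.le_of_dvd (Nat.pos_of_ne_zero index_ne_zero_of_finite) Y.two_dvd_index
  have := Nat.mul_le_mul hA hB
  omega

end Sys

theorem arith_bound {p f : ℕ} (hp : 3 ≤ p) (hf : 2 ≤ f) : f + 1 ≤ p ^ (f - 1) := by
  obtain ⟨k, rfl⟩ : ∃ k, f = k + 2 := ⟨f - 2, by omega⟩
  have h : ∀ k, k + 3 ≤ 3 ^ (k + 1) := fun k => by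
    induction k with
    | zero => norm_num
    | succ k ih => rw [pow_succ]; omega
  exact (h k).trans (Nat.pow_le_pow_left hp _)

set_option maxHeartbeats 1000000 in
open scoped MatrixGroups in
/-- Over a proper prime power the factors are too small. -/
theorem Fac.false_of_psl (Fc : Fac N A B) {F : Type} [Field F] [Fintype F] {p f : ℕ} [Fact p.Prime] [CharP F p]
    (hp2 : p ≠ 2) (hf : 2 ≤ f) (hF : Fintype.card F = p ^ f)
    (ψ : ↥N ≃* Matrix.ProjectiveSpecialLinearGroup (Fin 2) F) : False := by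
  haveI := Fc.normal
  haveI := Fc.cyc
  haveI := Fc.zg
  have hpp : p.Prime := Fact.out
  have hp3 : 3 ≤ p := by have := hpp.two_le; omega
  set q := p ^ f with hq
  have hqodd : Odd q := (hpp.odd_of_ne_two hp2).pow
  have hg2 : Nat.gcd 2 (q - 1) = 2 := by
    obtain ⟨k, hk⟩ := hqodd
    exact Nat.gcd_eq_left ⟨k, by omega⟩
  have hcard : 2 * Nat.card N = q * (q ^ 2 - 1) := by
    have h := Cfsg.Lib.Classical.SmallPSL.card_psl (F := F) hF
    rwa [hg2, ← Nat.card_congr ψ.toEquiv] at h
  -- element orders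
  have hspec : ∀ x : ↥N, orderOf x ∣ p ∨ orderOf x ∣ (q - 1) / 2 ∨ orderOf x ∣ (q + 1) / 2 := fun x => by
    have h := (GLTwo.psl_spectrum (F := F) p (orderOf x)).1 ⟨ψ x, MulEquiv.orderOf_eq ψ x⟩
    rwa [hF, hg2] at h
  have hpq : p ∣ q := dvd_pow_self p (by omega)
  have hq1 : 1 ≤ q := Nat.one_le_pow _ _ hpp.pos
  have hnd1 : ¬ p ∣ (q - 1) / 2 := fun h => by
    obtain ⟨k, hk⟩ := hqodd
    have h1 : p ∣ q - 1 := h.trans (Nat.div_dvd_of_dvd ⟨k, by omega⟩)
    have h2 := Nat.dvd_sub hpq h1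
    rw [show q - (q - 1) = 1 by omega] at h2
    exact hpp.not_dvd_one h2
  have hnd2 : ¬ p ∣ (q + 1) / 2 := fun h => by
    obtain ⟨k, hk⟩ := hqodd
    have h1 : p ∣ q + 1 := h.trans (Nat.div_dvd_of_dvd ⟨k + 1, by omega⟩)
    exact hpp.not_dvd_one ((Nat.dvd_add_right hpq).1 h1)
  have hpP : ∀ x : ↥N, p ∣ orderOf x → orderOf x ∣ p := fun x hx =>
    (hspec x).resolve_right fun h => h.elim (fun h => hnd1 (hx.trans h)) fun h => hnd2 (hx.trans h)
  have hpow : ∀ x : ↥N, ∀ k, orderOf x ∣ p ^ k → orderOf x ∣ p := fun x k hk => by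
    obtain ⟨j, -, hj⟩ := (Nat.dvd_prime_pow hpp).1 hk
    rcases j with _ | j
    · rw [hj, pow_zero]; exact one_dvd _
    · exact hpP x (hj ▸ dvd_pow_self p (by omega))
  have hbig : p * p ≤ q := by rw [hq, ← sq]; exact Nat.pow_le_pow_right hpp.pos hf
  have hmax : ∀ x : ↥N, orderOf x ≤ (q + 1) / 2 := fun x => by
    obtain ⟨k, hk⟩ := hqodd
    have h3 : 3 * p ≤ q := le_trans (Nat.mul_le_mul_right p hp3) hbig
    rcases hspec x with h | h | h
    · have := Nat.le_of_dvd hpp.pos h; omega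
    · have := Nat.le_of_dvd (by omega) h; omega
    · exact Nat.le_of_dvd (by omega) h
  -- the index
  letI : Algebra (ZMod p) F := ZMod.algebra F p
  have he2f : N.index ∣ 2 * f := by
    obtain ⟨φ, hφ, -, hker⟩ := Known.AutPSL2.exists_hom_out (F := F) p (by omega) hF
    let χ : G →* Cfsg.Out (Matrix.ProjectiveSpecialLinearGroup (Fin 2) F) :=
      (QuotientGroup.mk' _).comp ((MulAut.congr ψ).toMonoidHom.comp (MulAut.conjNormal : G →* MulAut ↥N))
    have hk : χ.ker = N := by
      ext x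
      constructor
      · intro hx
        obtain ⟨l, hl⟩ := (QuotientGroup.eq_one_iff _).1 (MonoidHom.mem_ker.1 hx)
        have h1 : (MulAut.conjNormal x : MulAut ↥N) = MulAut.conj (ψ.symm l) := by
          refine MulEquiv.ext fun m => ψ.injective ?_
          have h2 := DFunLike.congr_fun hl.symm (ψ m)
          simp only [MonoidHom.comp_apply, MulEquiv.coe_toMonoidHom] at h2
          rw [MulAut.conj_apply, map_mul, map_mul, map_inv, MulEquiv.apply_symm_apply]
          simpa [MulAut.congr] using h2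
        have h3 : x * ((ψ.symm l : ↥N) : G)⁻¹ = 1 := Fc.eq_one_of_conjNormal (by
          rw [map_mul, map_inv, mul_inv_eq_one, h1]
          exact MulEquiv.ext fun m => Subtype.ext (by simp [MulAut.conjNormal_apply]))
        rw [mul_inv_eq_one] at h3
        rw [h3]
        exact SetLike.coe_mem _
      · intro hx
        refine MonoidHom.mem_ker.2 ((QuotientGroup.eq_one_iff _).2 ⟨ψ ⟨x, hx⟩, ?_⟩)
        refine MulEquiv.ext fun m => ?_
        obtain ⟨m, rfl⟩ := ψ.surjective m
        show ψ ⟨x, hx⟩ * ψ m * (ψ ⟨x, hx⟩)⁻¹ = ψ (MulAut.conjNormal x (ψ.symm (ψ m)))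
        rw [← map_inv, ← map_mul, ← map_mul, MulEquiv.symm_apply_apply]
        exact congrArg ψ (Subtype.ext (by simp [MulAut.conjNormal_apply]))
    have h1 : N.index ∣ Nat.card (Cfsg.Out (Matrix.ProjectiveSpecialLinearGroup (Fin 2) F)) := by
      rw [← hk, Subgroup.index_ker]
      exact χ.range.card_subgroup_dvd_card
    refine h1.trans (dvd_of_eq ?_)
    rw [← φ.ker.card_mul_index, Subgroup.index_ker, hker, MonoidHom.range_eq_top.2 hφ, Subgroup.card_top,
      Nat.card_congr Multiplicative.toAdd, Nat.card_zmod, hg2]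
  set e := N.index with he
  have hepos : e ≠ 0 := index_ne_zero_of_finite
  -- relative indices
  have hrel : ∀ K : Subgroup G, ∃ r, r ∣ e ∧ Nat.card K = Nat.card (K.subgroupOf N) * r := fun K => by
    refine ⟨N.relIndex K, relIndex_dvd_index_of_normal _ _, ?_⟩
    rw [← (N.subgroupOf K).card_mul_index,
      show Nat.card (N.subgroupOf K) = Nat.card (K.subgroupOf N) from Nat.card_congr
        { toFun := fun x => ⟨⟨x.1.1, x.2⟩, x.1.2⟩
          invFun := fun x => ⟨⟨x.1.1, x.2⟩, x.1.2⟩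
          left_inv := fun _ => rfl
          right_inv := fun _ => rfl }]
    rfl
  -- the part at `p`
  have hppart : ∀ (K : Subgroup G) (P : Sylow p K), IsCyclic (P : Subgroup K) →
      (Nat.card K).factorization p ≤ 1 + e.factorization p := fun K P hP => by
    obtain ⟨g, hg⟩ := hP.exists_ofOrder_eq_natCard
    have ho : orderOf (((g : K) : G)) = p ^ (Nat.card K).factorization p := by
      rw [Subgroup.orderOf_coe, Subgroup.orderOf_coe, hg, Sylow.card_eq_multiplicity]
    have hm : (((g : K) : G)) ^ e ∈ N := N.pow_index_mem _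
    have h1 : orderOf (⟨_, hm⟩ : ↥N) ∣ p := hpow _ ((Nat.card K).factorization p) (by
      rw [Subgroup.orderOf_mk, ← ho]
      exact orderOf_pow_dvd e)
    rw [Subgroup.orderOf_mk, orderOf_dvd_iff_pow_eq_one, ← pow_mul, ← orderOf_dvd_iff_pow_eq_one, ho] at h1
    have h2 := (hpp.pow_dvd_iff_le_factorization (mul_ne_zero hepos hpp.ne_zero)).1 h1
    rw [Nat.factorization_mul hepos hpp.ne_zero] at h2
    simp [hpp.factorization_self] at h2
    omega
  have hne : Nat.card N * e = Nat.card A * Nat.card B := by rw [← Fc.card_eq, he, N.card_mul_index]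
  obtain ⟨r, hr, hAr⟩ := hrel A
  obtain ⟨s, hs, hBs⟩ := hrel B
  -- an element of order `p` in the cyclic factor
  have hpA : p ∣ Nat.card (A.subgroupOf N) := by
    by_contra hnd
    have hA' : (Nat.card A).factorization p ≤ e.factorization p := by
      rw [hAr, Nat.factorization_mul Nat.card_pos.ne' (ne_zero_of_dvd_ne_zero hepos hr)]
      simp only [Finsupp.add_apply, Nat.factorization_eq_zero_of_not_dvd hnd, zero_add]
      exact (Nat.factorization_le_iff_dvd (ne_zero_of_dvd_ne_zero hepos hr) hepos).2 hr p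
    obtain ⟨PB⟩ : Nonempty (Sylow p B) := inferInstance
    have hB' := hppart B PB (IsPGroup.isCyclic_of_isZGroup PB.2)
    have hf' : f ≤ (Nat.card N).factorization p := by
      refine (hpp.pow_dvd_iff_le_factorization Nat.card_pos.ne').1 ?_
      have h2 : (q : ℕ) ∣ 2 * Nat.card N := ⟨_, hcard⟩
      exact ((Nat.coprime_primes hpp Nat.prime_two).2 hp2).pow_left f |>.dvd_of_dvd_mul_left h2
    have h3 := congrArg (fun n => n.factorization p) hne
    simp only [Nat.factorization_mul Nat.card_pos.ne' hepos, Nat.factorization_mul Nat.card_pos.ne' Nat.card_pos.ne',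
      Finsupp.add_apply] at h3
    have hef : e.factorization p ≤ f.factorization p := by
      refine (Nat.factorization_le_iff_dvd hepos (by omega)).2 he2f p |>.trans ?_
      rw [Nat.factorization_mul two_ne_zero (by omega), Finsupp.add_apply,
        Nat.factorization_eq_zero_of_not_dvd fun h => hp2 ((Nat.prime_dvd_prime_iff_eq hpp Nat.prime_two).1 h),
        zero_add]
    have h4 : p ^ (f - 1) ≤ f := (Nat.pow_le_pow_right hpp.pos (by omega : f - 1 ≤ f.factorization p)).trans
      (Nat.le_of_dvd (by omega) (Nat.ordProj_dvd f p))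
    have := arith_bound hp3 hf
    omega
  -- so the cyclic factor meets `N` in a group of order at most `p`
  have hA1 : Nat.card (A.subgroupOf N) ≤ p := by
    obtain ⟨y, hy⟩ := exists_prime_orderOf_dvd_card' p hpA
    haveI : IsCyclic (A.subgroupOf N) := isCyclic_of_injective
      ((MonoidHom.mk' (fun x => (⟨x.1.1, x.2⟩ : A)) fun _ _ => rfl : A.subgroupOf N →* A))
      fun x y h => Subtype.ext (Subtype.ext (congrArg Subtype.val h :))
    letI : CommGroup (A.subgroupOf N) := IsCyclic.commGroup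
    obtain ⟨z, hz⟩ := IsCyclic.exists_ofOrder_eq_natCard (α := A.subgroupOf N)
    rw [← hz]
    have hdv : orderOf z ∣ p := by
      by_contra hnd
      have hzp : ¬ p ∣ orderOf z := fun h => hnd (by
        rw [← Subgroup.orderOf_coe] at h ⊢
        exact hpP _ h)
      have hco : (orderOf y).Coprime (orderOf z) := by rw [hy]; exact hpp.coprime_iff_not_dvd.2 hzp
      have hyz := (Commute.all y z).orderOf_mul_eq_mul_orderOf_of_coprime hco
      rw [hy, ← Subgroup.orderOf_coe] at hyz
      have h1 := hpP _ (by rw [hyz]; exact dvd_mul_right _ _)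
      rw [hyz] at h1
      exact hnd ((Nat.mul_dvd_mul_iff_left hpp.pos).1 (by rwa [mul_one]; ) |>.trans (one_dvd p))
    exact Nat.le_of_dvd hpp.pos hdv
  have hB1 : Nat.card (B.subgroupOf N) ≤ (q + 1) / 2 * ((q + 1) / 2) := by
    haveI : IsZGroup (B.subgroupOf N) := IsZGroup.of_injective
      (f := (MonoidHom.mk' (fun x => (⟨x.1.1, x.2⟩ : B)) fun _ _ => rfl : B.subgroupOf N →* B))
      fun x y h => Subtype.ext (Subtype.ext (congrArg Subtype.val h :))
    exact zgroup_card_le _ fun x => by rw [← Subgroup.orderOf_coe]; exact hmax _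
  -- the count
  have hre : r ≤ e := Nat.le_of_dvd (Nat.pos_of_ne_zero hepos) hr
  have hse : s ≤ e := Nat.le_of_dvd (Nat.pos_of_ne_zero hepos) hs
  have hef2 : e ≤ 2 * f := Nat.le_of_dvd (by omega) he2f
  set M := (q + 1) / 2 with hM
  have h1 : Nat.card N * e ≤ p * M * M * e * e := by
    rw [hne, hAr, hBs]
    calc _ ≤ p * e * (M * M * e) := Nat.mul_le_mul (Nat.mul_le_mul hA1 hre) (Nat.mul_le_mul hB1 hse)
      _ = _ := by ring
  have h2 : Nat.card N ≤ p * M * M * e := Nat.le_of_mul_le_mul_right h1 (Nat.pos_of_ne_zero hepos)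
  have h3 : 2 * M ≤ q + 1 := Nat.mul_div_le (q + 1) 2
  have h4 : 4 * Nat.card N ≤ p * (2 * f) * ((q + 1) * (q + 1)) := by
    calc 4 * Nat.card N ≤ 4 * (p * M * M * e) := Nat.mul_le_mul_left 4 h2
      _ = p * e * ((2 * M) * (2 * M)) := by ring
      _ ≤ _ := Nat.mul_le_mul (Nat.mul_le_mul_left p hef2) (Nat.mul_le_mul h3 h3)
  have h5 : p * f + 2 ≤ q := by
    have h := Nat.mul_le_mul_left p (arith_bound hp3 hf)
    rw [← pow_succ', show f - 1 + 1 = f by omega, ← hq] at h
    nlinarith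
  obtain ⟨t, ht⟩ : ∃ t, q = t + 1 := ⟨q - 1, by omega⟩
  have h6 : q ^ 2 - 1 = t * (q + 1) := by
    rw [Nat.sub_eq_iff_eq_add (Nat.one_le_pow _ _ (by omega)), ht]; ring
  rw [h6] at hcard
  have h7 : q * t ≤ p * f * (q + 1) := by nlinarith
  nlinarith

namespace Sys

variable (Y : Sys N A B)

include Y in
/-- **Recognition.** -/
theorem exists_psl : ∃ (p : ℕ) (_ : Fact p.Prime), 3 < p ∧
    Nonempty (↥N ≃* Matrix.ProjectiveSpecialLinearGroup (Fin 2) (ZMod p)) ∧ N.index = 2 := by
  obtain ⟨P, m, hm, hP⟩ := Y.dihedral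
  haveI : Group.IsPerfect ↥N := ⟨Y.fac.commutator_eq_top⟩
  let q : ↥N ⧸ Cfsg.oddCore ↥N ≃* ↥N :=
    (QuotientGroup.quotientMulEquivOfEq Y.fac.oddCore_eq_bot).trans QuotientGroup.quotientBot
  rcases Cfsg.Agent.S0483.result P m hm hP with ⟨F, iF, iT, hodd, h3, ⟨e⟩⟩ | ⟨⟨e⟩⟩
  swap
  · exact (Y.not_alt_seven (q.symm.trans e)).elim
  obtain ⟨p, hp⟩ := CharP.exists F
  obtain ⟨f, hpp, hF⟩ := FiniteField.card F p
  haveI : Fact p.Prime := ⟨hpp⟩
  have hp2 : p ≠ 2 := by
    rintro rfl
    rw [hF, Nat.odd_pow_iff f.pos.ne'] at hodd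
    exact absurd hodd (by decide)
  rcases Nat.lt_or_ge (f : ℕ) 2 with hf | hf
  swap
  · exact (Y.fac.false_of_psl hp2 hf hF (q.symm.trans e)).elim
  have hf1 : (f : ℕ) = 1 := by have := f.pos; omega
  rw [hf1, pow_one] at hF
  obtain ⟨σ⟩ := PrimePowerOrders.psl_congr (F := F) (K := ZMod p) (by rw [hF, ZMod.card])
  refine ⟨p, inferInstance, hF ▸ h3, ⟨q.symm.trans (e.trans σ)⟩, ?_⟩
  haveI := Y.fac.normal
  have h := SemiCyclic.index_dvd_two_of_psl (p := p) N (q.symm.trans (e.trans σ))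
  rw [Y.fac.cent, sup_bot_eq] at h
  exact (Nat.dvd_antisymm h Y.two_dvd_index)

end Sys

end Cfsg.Lib.CyclicZFactor
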