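import Mathlib
import Cfsg.Agent.CyclicInter.Main

/-!
A group `G = A B = N B` with `A` cyclic, `B` a Z-group, `N` simple with trivial centralizer: the
Sylow 2-subgroup `⟨a⟩⟨b⟩` and the sign of the permutations of the cosets of `B`.
-/

set_option autoImplicit false
set_option linter.unusedSectionVars false
set_option linter.style.haveILetI false

namespace Cfsg.Lib.CyclicZFactor

open Subgroup

universe u

variable {G : Type u} [Group G] [Finite G]

/-- A product of a cyclic group and a Z-group with trivial intersection. -/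
structure Pre (A B : Subgroup G) : Prop where
  cyc : IsCyclic A
  zg : IsZGroup B
  prod : ∀ g : G, ∃ a ∈ A, ∃ b ∈ B, g = a * b
  disj : A ⊓ B = ⊥

/-- The setting. -/
structure Fac (N A B : Subgroup G) : Prop where
  normal : N.Normal
  simple : IsSimpleGroup N
  nonab : ¬ IsMulCommutative N
  cent : centralizer (N : Set G) = ⊥
  cyc : IsCyclic A
  zg : IsZGroup B
  prod : ∀ g : G, ∃ a ∈ A, ∃ b ∈ B, g = a * b
  cover : ∀ g : G, ∃ n ∈ N, ∃ b ∈ B, g = n * b
  disj : A ⊓ B = ⊥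

namespace Pre

variable {A B : Subgroup G} (F : Pre A B)
include F

theorem eq_one_of_mem {x : G} (hA : x ∈ A) (hB : x ∈ B) : x = 1 := by
  have : x ∈ A ⊓ B := ⟨hA, hB⟩
  rwa [F.disj, mem_bot] at this

theorem card_eq : Nat.card G = Nat.card A * Nat.card B := by
  rw [← Nat.card_prod]
  refine (Nat.card_congr (Equiv.ofBijective (fun p : A × B => (p.1 : G) * p.2) ⟨?_, fun g => ?_⟩)).symm
  · rintro ⟨a, b⟩ ⟨a', b'⟩ h
    simp only at h
    have e : (a' : G)⁻¹ * a = b' * (b : G)⁻¹ := by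
      rw [eq_mul_inv_iff_mul_eq, mul_assoc, h, inv_mul_cancel_left]
    have h1 : (a' : G)⁻¹ * a = 1 :=
      F.eq_one_of_mem (mul_mem (inv_mem a'.2) a.2) (e ▸ mul_mem b'.2 (inv_mem b.2))
    have ha : (a' : G) = a := inv_mul_eq_one.1 h1
    rw [ha] at h
    exact Prod.ext (Subtype.ext ha.symm) (Subtype.ext (mul_left_cancel h))
  · obtain ⟨a, ha, b, hb, rfl⟩ := F.prod g
    exact ⟨(⟨a, ha⟩, ⟨b, hb⟩), rfl⟩

/-- A Sylow 2-subgroup that is a product of a subgroup of `A` and a subgroup of `B`. -/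
theorem exists_sylow : ∃ (S : Sylow 2 G) (a b : G), a ∈ (S : Subgroup G) ∧ b ∈ (S : Subgroup G) ∧ a ∈ A ∧ b ∈ B ∧
    orderOf a = 2 ^ (Nat.card A).factorization 2 ∧ orderOf b = 2 ^ (Nat.card B).factorization 2 ∧
    ∀ s ∈ (S : Subgroup G), ∃ i j : ℤ, s = a ^ i * b ^ j := by
  haveI : Fact (Nat.Prime 2) := ⟨Nat.prime_two⟩
  obtain ⟨PA⟩ : Nonempty (Sylow 2 A) := inferInstance
  obtain ⟨PB⟩ : Nonempty (Sylow 2 B) := inferInstance
  haveI := F.cyc
  haveI := F.zg
  haveI : IsCyclic (PA : Subgroup A) := inferInstance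
  haveI : IsCyclic (PB : Subgroup B) := IsPGroup.isCyclic_of_isZGroup PB.2
  obtain ⟨⟨a₀, ha₀⟩, ha₀g⟩ := IsCyclic.exists_generator (α := (PA : Subgroup A))
  obtain ⟨⟨b₀, hb₀⟩, hb₀g⟩ := IsCyclic.exists_generator (α := (PB : Subgroup B))
  have hoa : orderOf (a₀ : G) = 2 ^ (Nat.card A).factorization 2 := by
    rw [Subgroup.orderOf_coe, ← Sylow.card_eq_multiplicity PA, ← orderOf_eq_card_of_forall_mem_zpowers ha₀g]
    exact (Subgroup.orderOf_mk a₀ ha₀).symm
  have hob : orderOf (b₀ : G) = 2 ^ (Nat.card B).factorization 2 := by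
    rw [Subgroup.orderOf_coe, ← Sylow.card_eq_multiplicity PB, ← orderOf_eq_card_of_forall_mem_zpowers hb₀g]
    exact (Subgroup.orderOf_mk b₀ hb₀).symm
  have hpa : IsPGroup 2 (zpowers (a₀ : G)) := IsPGroup.of_card (n := _) (by rw [Nat.card_zpowers, hoa])
  have hpb : IsPGroup 2 (zpowers (b₀ : G)) := IsPGroup.of_card (n := _) (by rw [Nat.card_zpowers, hob])
  obtain ⟨S₁, hS₁⟩ := hpa.exists_le_sylow
  obtain ⟨S₂, hS₂⟩ := hpb.exists_le_sylow
  obtain ⟨g, hg⟩ := MulAction.exists_smul_eq G S₁ S₂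
  obtain ⟨u, hu, w, hw, huw⟩ := F.prod g⁻¹
  set S : Sylow 2 G := u⁻¹ • S₁ with hSd
  have hmem : ∀ x : G, x ∈ (S : Subgroup G) ↔ u * x * u⁻¹ ∈ (S₁ : Subgroup G) := fun x => by
    have e : u * x * u⁻¹ ∈ (S₁ : Subgroup G) ↔ u⁻¹ * (u * x * u⁻¹) * u⁻¹⁻¹ ∈ (S : Subgroup G) :=
      (Transfer.mem_conj_sylow_iff (g := u⁻¹) (P := S₁)).symm
    rw [e]; congr! 1; group
  have haS : (a₀ : G) ∈ (S : Subgroup G) := by
    rw [hmem]
    letI : CommGroup A := IsCyclic.commGroup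
    have := congrArg Subtype.val (mul_comm (⟨u, hu⟩ : A) a₀)
    simp only [Subgroup.coe_mul] at this
    rw [this, mul_inv_cancel_right]
    exact hS₁ (mem_zpowers _)
  have hbS : w * b₀ * w⁻¹ ∈ (S : Subgroup G) := by
    rw [hmem]
    have h1 : (b₀ : G) ∈ (S₂ : Subgroup G) := hS₂ (mem_zpowers _)
    rw [← hg, show (b₀ : G) = g * (g⁻¹ * b₀ * g) * g⁻¹ by group, Transfer.mem_conj_sylow_iff,
      show g = w⁻¹ * u⁻¹ by rw [← mul_inv_rev, ← huw, inv_inv]] at h1
    simpa [mul_assoc] using h1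
  have hob' : orderOf (w * b₀ * w⁻¹) = 2 ^ (Nat.card B).factorization 2 := by
    rw [← hob, ← MulAut.conj_apply, MulEquiv.orderOf_eq]
  refine ⟨S, a₀, w * b₀ * w⁻¹, haS, hbS, a₀.2, mul_mem (mul_mem hw b₀.2) (inv_mem hw), hoa, hob', ?_⟩
  -- counting
  set b := w * (b₀ : G) * w⁻¹
  have hbB : b ∈ B := mul_mem (mul_mem hw b₀.2) (inv_mem hw)
  let m : zpowers (a₀ : G) × zpowers b → (S : Subgroup G) := fun p => ⟨(p.1 : G) * p.2,
    mul_mem ((zpowers_le.2 haS) p.1.2) ((zpowers_le.2 hbS) p.2.2)⟩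
  have hm : Function.Bijective m := by
    refine (Nat.bijective_iff_injective_and_card m).2 ⟨?_, ?_⟩
    · rintro ⟨x, y⟩ ⟨x', y'⟩ h
      have h' : (x : G) * y = x' * y' := congrArg Subtype.val h
      have e : (x' : G)⁻¹ * x = y' * (y : G)⁻¹ := by
        rw [eq_mul_inv_iff_mul_eq, mul_assoc, h', inv_mul_cancel_left]
      have h1 : (x' : G)⁻¹ * x = 1 := F.eq_one_of_mem
        (mul_mem (inv_mem ((zpowers_le.2 a₀.2) x'.2)) ((zpowers_le.2 a₀.2) x.2))
        (e ▸ mul_mem ((zpowers_le.2 hbB) y'.2) (inv_mem ((zpowers_le.2 hbB) y.2)))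
      have hx : (x' : G) = x := inv_mul_eq_one.1 h1
      rw [hx] at h'
      exact Prod.ext (Subtype.ext hx.symm) (Subtype.ext (mul_left_cancel h'))
    · rw [Nat.card_prod, Nat.card_zpowers, Nat.card_zpowers, hoa, hob', Sylow.card_eq_multiplicity S, F.card_eq,
        Nat.factorization_mul Nat.card_pos.ne' Nat.card_pos.ne', ← pow_add]
      rfl
  intro s hs
  obtain ⟨⟨⟨x, i, hi⟩, ⟨y, j, hj⟩⟩, e⟩ := hm.2 ⟨s, hs⟩
  refine ⟨i, j, ?_⟩
  have e' : x * y = s := congrArg Subtype.val e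
  simp only at hi hj
  rw [← e', ← hi, ← hj]

end Pre

namespace Fac

variable {N A B : Subgroup G} (F : Fac N A B)
include F

theorem pre : Pre A B := ⟨F.cyc, F.zg, F.prod, F.disj⟩

theorem eq_one_of_mem {x : G} (hA : x ∈ A) (hB : x ∈ B) : x = 1 := F.pre.eq_one_of_mem hA hB

theorem card_eq : Nat.card G = Nat.card A * Nat.card B := F.pre.card_eq

theorem commutator_eq_top : commutator ↥N = ⊤ := by
  haveI := F.simple
  refine (IsSimpleGroup.eq_bot_or_eq_top_of_normal (commutator ↥N) inferInstance).resolve_left fun h => F.nonab ?_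
  rw [_root_.commutator_def, commutator_eq_bot_iff_le_centralizer, coe_top, centralizer_univ] at h
  exact ⟨⟨fun a b => mem_center_iff.1 (h (mem_top b)) a⟩⟩

theorem not_solvable : ¬ Group.IsSolvable ↥N := fun h => by
  haveI := F.simple
  haveI := h
  exact (Group.IsSolvable.commutator_lt_top_of_nontrivial ↥N).ne F.commutator_eq_top

theorem hom_eq_one {C : Type*} [CommGroup C] (φ : G →* C) {n : G} (hn : n ∈ N) : φ n = 1 := by
  have h : (⊤ : Subgroup ↥N) ≤ (φ.comp N.subtype).ker := by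
    rw [← F.commutator_eq_top]
    exact Abelianization.commutator_subset_ker _
  exact h (mem_top (⟨n, hn⟩ : ↥N))

/-- A nontrivial element of `A` has no conjugate in `B`. -/
theorem not_conj {v u : G} (hv : v ∈ A) (hv1 : v ≠ 1) (hu : u ∈ B) : ¬ IsConj v u := by
  rw [isConj_iff]
  rintro ⟨g, hg⟩
  obtain ⟨a, ha, b, hb, hab⟩ := F.prod g⁻¹
  haveI := F.cyc
  letI : CommGroup A := IsCyclic.commGroup
  have hc : a⁻¹ * v * a = v := by
    have := congrArg Subtype.val (mul_comm (⟨v, hv⟩ : A) ⟨a, ha⟩)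
    simp only [Subgroup.coe_mul] at this
    rw [mul_assoc, this, inv_mul_cancel_left]
  have h2 : v = b * u * b⁻¹ := by
    rw [← hg, show g = b⁻¹ * a⁻¹ by rw [← mul_inv_rev, ← hab, inv_inv]]
    calc v = a⁻¹ * v * a := hc.symm
      _ = b * (b⁻¹ * a⁻¹ * v * (b⁻¹ * a⁻¹)⁻¹) * b⁻¹ := by group
  exact hv1 (F.eq_one_of_mem hv (h2 ▸ mul_mem (mul_mem hb hu) (inv_mem hb)))

end Fac

/-- The Sylow data. -/
structure Sys (N A B : Subgroup G) where
  S : Sylow 2 G
  a : G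
  b : G
  ε : G →* ℤˣ
  fac : Fac N A B
  aS : a ∈ (S : Subgroup G)
  bS : b ∈ (S : Subgroup G)
  aA : a ∈ A
  bB : b ∈ B
  gen : ∀ s ∈ (S : Subgroup G), ∃ i j : ℤ, s = a ^ i * b ^ j
  εN : ∀ n ∈ N, ε n = 1
  εa : ε a = -1
  εb : ε b = -1
  coverS : ∀ s ∈ (S : Subgroup G), ∃ m : ℤ, s * b ^ m ∈ N

theorem neg_one_zpow_unit (m : ℤ) : ((-1 : ℤˣ)) ^ m = 1 ↔ Even m := by
  rcases Int.even_or_odd m with h | h
  · simp [h.neg_one_zpow, h]
  · simp [h.neg_one_zpow, Int.not_even_iff_odd.2 h]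

theorem exists_sys {N A B : Subgroup G} (F : Fac N A B) : Nonempty (Sys N A B) := by
  haveI : Fact (Nat.Prime 2) := ⟨Nat.prime_two⟩
  obtain ⟨S, a, b, haS, hbS, haA, hbB, hoa, hob, hgen⟩ := F.pre.exists_sylow
  haveI := F.normal
  -- neither factor has odd order
  have hnc : ¬ IsCyclic ↥(S : Subgroup G) := by
    intro h
    refine F.not_solvable ?_
    haveI := CyclicInter.solvable_of_cyclic S h
    exact Group.isSolvable_of_isSolvable_injective (f := N.subtype) N.subtype_injective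
  have ha1 : a ≠ 1 := by
    rintro rfl
    refine hnc ⟨⟨⟨b, hbS⟩, fun s => ?_⟩⟩
    obtain ⟨i, j, hij⟩ := hgen s s.2
    exact ⟨j, Subtype.ext (by simpa using hij.symm)⟩
  -- the sign of the action on the cosets of `B`
  classical
  haveI := Fintype.ofFinite (G ⧸ B)
  let ε : G →* ℤˣ := Equiv.Perm.sign.comp (MulAction.toPermHom G (G ⧸ B))
  haveI := F.cyc
  obtain ⟨⟨α, hα⟩, hαg⟩ := IsCyclic.exists_generator (α := A)
  have hAmem : ∀ x ∈ A, ∃ k : ℤ, α ^ k = x := fun x hx => by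
    obtain ⟨k, hk⟩ := hαg ⟨x, hx⟩
    exact ⟨k, congrArg Subtype.val hk⟩
  have hA2 : Even (Nat.card A) := by
    by_contra hne
    refine ha1 (orderOf_eq_one_iff.1 ?_)
    rw [hoa, Nat.factorization_eq_zero_of_not_dvd fun h => hne (even_iff_two_dvd.2 h), pow_zero]
  set σ := MulAction.toPermHom G (G ⧸ B) α with hσ
  have hmk : ∀ k : ℤ, (σ ^ k) ((1 : G) : G ⧸ B) = ((α ^ k : G) : G ⧸ B) := fun k => by
    rw [hσ, ← map_zpow]
    show ((α ^ k * 1 : G) : G ⧸ B) = _
    rw [mul_one]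
  have hall : ∀ y : G ⧸ B, σ.SameCycle ((1 : G) : G ⧸ B) y := by
    intro y
    obtain ⟨g, rfl⟩ := QuotientGroup.mk_surjective y
    obtain ⟨x, hx, c, hc, rfl⟩ := F.prod g
    obtain ⟨k, rfl⟩ := hAmem x hx
    refine ⟨k, ?_⟩
    rw [hmk, QuotientGroup.eq]
    simpa using hc
  have hα1 : α ≠ 1 := by
    rintro rfl
    obtain ⟨k, hk⟩ := hAmem a haA
    exact ha1 (by rw [← hk, one_zpow])
  have hmove : ∀ y : G ⧸ B, σ y ≠ y := by
    intro y e
    have h1 := hall y
    obtain ⟨k, hk⟩ := h1.symm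
    have h2 : σ ((σ ^ k) y) = (σ ^ k) y := by
      rw [← Equiv.Perm.mul_apply, ((Commute.refl σ).zpow_right k).eq, Equiv.Perm.mul_apply, e]
    rw [hk] at h2
    rw [show σ ((1 : G) : G ⧸ B) = ((α : G) : G ⧸ B) by simpa using hmk 1, QuotientGroup.eq, mul_one,
      Subgroup.inv_mem_iff] at h2
    exact hα1 (F.eq_one_of_mem hα h2)
  have hcyc : σ.IsCycle := ⟨((1 : G) : G ⧸ B), hmove _, fun y _ => hall y⟩
  have hcard : Fintype.card (G ⧸ B) = Nat.card A := by
    rw [← Nat.card_eq_fintype_card, ← Subgroup.index_eq_card]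
    have := B.card_mul_index
    rw [F.card_eq, mul_comm (Nat.card A)] at this
    exact Nat.eq_of_mul_eq_mul_left Nat.card_pos this
  have hεα : ε α = -1 := by
    show Equiv.Perm.sign σ = -1
    rw [hcyc.sign, show σ.support = Finset.univ from
      Finset.eq_univ_iff_forall.2 fun y => Equiv.Perm.mem_support.2 (hmove y), Finset.card_univ, hcard,
      hA2.neg_one_pow]
  have hεN : ∀ n ∈ N, ε n = 1 := fun n hn => F.hom_eq_one ε hn
  have hεa : ε a = -1 := by
    obtain ⟨k, hk⟩ := hAmem a haA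
    have hk2 : Odd k := by
      rw [← Int.not_even_iff_odd]
      rintro ⟨m, rfl⟩
      -- `a` would be a square, against the size of its order
      obtain ⟨t, ht⟩ := hA2.two_dvd
      have hm : a ^ Nat.card A = 1 := by
        exact congrArg Subtype.val (pow_card_eq_one' (x := (⟨a, haA⟩ : A)))
      have h1 : a ^ t = 1 := by
        rw [← hk, ← zpow_natCast, ← zpow_mul, show (m + m) * (t : ℤ) = ((Nat.card A : ℕ) : ℤ) * m by
          rw [ht]; push_cast; ring, zpow_mul, zpow_natCast]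
        rw [show α ^ Nat.card A = 1 from congrArg Subtype.val (pow_card_eq_one' (x := (⟨α, hα⟩ : A))), one_zpow]
      have h2 := orderOf_dvd_of_pow_eq_one h1
      rw [hoa] at h2
      have h3 : 2 * 2 ^ (Nat.card A).factorization 2 ∣ Nat.card A := by
        conv_rhs => rw [ht]
        exact Nat.mul_dvd_mul_left 2 h2
      rw [← pow_succ', Nat.prime_two.pow_dvd_iff_le_factorization Nat.card_pos.ne'] at h3
      omega
    rw [← hk, map_zpow, hεα, hk2.neg_one_zpow]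
  -- covering by `N` and `b`
  have hcov : ∀ s ∈ (S : Subgroup G), ∃ m : ℤ, s * b ^ m ∈ N := by
    let π := QuotientGroup.mk' N
    have hsurj : Function.Surjective (π.comp B.subtype) := fun q => by
      obtain ⟨g, rfl⟩ := QuotientGroup.mk'_surjective N q
      obtain ⟨n, hn, c, hc, rfl⟩ := F.cover g
      exact ⟨⟨c, hc⟩, by
        show π c = π (n * c)
        rw [map_mul, show π n = 1 from (QuotientGroup.eq_one_iff n).2 hn, one_mul]⟩
    let Pb : Sylow 2 B := Sylow.ofCard (zpowers (⟨b, hbB⟩ : B))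
      (by rw [Nat.card_zpowers, Subgroup.orderOf_mk, hob])
    let Q := Pb.mapSurjective hsurj
    have hQ : (Q : Subgroup (G ⧸ N)) = zpowers (π b) := by
      rw [Sylow.coe_mapSurjective, Sylow.coe_ofCard, MonoidHom.map_zpowers]
      rfl
    have hle : (Q : Subgroup (G ⧸ N)) ≤ (S : Subgroup G).map π := by
      rw [hQ, zpowers_le]
      exact ⟨b, hbS, rfl⟩
    have heq := Q.is_maximal' (S.2.map π) hle
    intro s hs
    have : π s ∈ (Q : Subgroup (G ⧸ N)) := heq ▸ mem_map_of_mem π hs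
    rw [hQ, mem_zpowers_iff] at this
    obtain ⟨k, hk⟩ := this
    refine ⟨-k, (QuotientGroup.eq_one_iff _).1 ?_⟩
    show π (s * b ^ (-k)) = 1
    rw [map_mul, map_zpow, ← hk, zpow_neg, mul_inv_cancel]
  have hεb : ε b = -1 := by
    obtain ⟨m, hm⟩ := hcov a haS
    have h := hεN _ hm
    rw [map_mul, map_zpow, hεa] at h
    refine (Int.units_eq_one_or _).resolve_left fun e => ?_
    rw [e, one_zpow, mul_one] at h
    exact absurd h (by decide)
  exact ⟨⟨S, a, b, ε, F, haS, hbS, haA, hbB, hgen, hεN, hεa, hεb, hcov⟩⟩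

namespace Sys

variable {N A B : Subgroup G} (Y : Sys N A B)

/-- The Sylow 2-subgroup of `N`. -/
def L : Subgroup G := (Y.S : Subgroup G) ⊓ N

/-- The order of `b` modulo `N`. -/
noncomputable def e : ℕ :=
  haveI := Y.fac.normal
  orderOf (QuotientGroup.mk' N Y.b)

theorem zpow_mem_iff (m : ℤ) : Y.b ^ m ∈ N ↔ (Y.e : ℤ) ∣ m := by
  haveI := Y.fac.normal
  rw [← QuotientGroup.eq_one_iff, ← QuotientGroup.mk'_apply, map_zpow, ← orderOf_dvd_iff_zpow_eq_one]
  rfl

theorem pow_e_mem : Y.b ^ Y.e ∈ N := by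
  have := (Y.zpow_mem_iff Y.e).2 dvd_rfl
  rwa [zpow_natCast] at this

theorem ε_even {m : ℤ} (h : Y.b ^ m ∈ N) : Even m := by
  have := Y.εN _ h
  rwa [map_zpow, Y.εb, neg_one_zpow_unit] at this

theorem e_even : Even Y.e := (Int.even_coe_nat _).1 (Y.ε_even (by rw [zpow_natCast]; exact Y.pow_e_mem))

theorem e_pos : 0 < Y.e := by
  haveI := Y.fac.normal
  exact orderOf_pos _

theorem exists_e_pow : ∃ r, Y.e = 2 ^ r := by
  haveI := Y.fac.normal
  obtain ⟨k, hk⟩ := IsPGroup.iff_orderOf.1 Y.S.2 ⟨Y.b, Y.bS⟩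
  rw [Subgroup.orderOf_mk] at hk
  obtain ⟨r, -, hr⟩ := (Nat.dvd_prime_pow Nat.prime_two).1 (hk ▸ orderOf_map_dvd (QuotientGroup.mk' N) Y.b)
  exact ⟨r, hr⟩

/-- every element of the Sylow group is an element of `L` times a power of `b` -/
theorem decomp {s : G} (hs : s ∈ (Y.S : Subgroup G)) : ∃ l ∈ Y.L, ∃ m : ℤ, s = l * Y.b ^ m := by
  obtain ⟨m, hm⟩ := Y.coverS s hs
  exact ⟨s * Y.b ^ m, ⟨mul_mem hs (zpow_mem Y.bS m), hm⟩, -m, by simp⟩

/-- `a` is an element of `L` times an odd power of `b` -/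
theorem a_decomp : ∃ l ∈ Y.L, ∃ m : ℤ, Odd m ∧ Y.a = l * Y.b ^ m := by
  obtain ⟨l, hl, m, hm⟩ := Y.decomp Y.aS
  refine ⟨l, hl, m, ?_, hm⟩
  have := congrArg Y.ε hm
  rw [map_mul, map_zpow, Y.εa, Y.εN _ hl.2, Y.εb, one_mul] at this
  rw [← Int.not_even_iff_odd]
  intro he
  rw [he.neg_one_zpow] at this
  exact absurd this (by decide)

end Sys

end Cfsg.Lib.CyclicZFactor
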