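import Cfsg.Agent.CyclicZFactor.Setup
import Cfsg.Agent.BenderSE.Criterion2.GenTransfer
import Cfsg.Agent.GWDihedral.Shell.Target
import Cfsg.Agent.InvolCalc.ZStarApps
import Cfsg.Agent.Fusion.GroupSystem
import Cfsg.Agent.Transfer.Frobenius

/-!
Transfer and fusion tools for the simple normal subgroup.
-/

set_option autoImplicit false
set_option linter.unusedSectionVars false
set_option linter.style.haveILetI false

namespace Cfsg.Lib.CyclicZFactor

open Subgroup

universe u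

variable {G : Type u} [Group G] [Finite G] {N A B : Subgroup G}

namespace Sys

variable (Y : Sys N A B)

theorem L_le_S {g : G} (h : g ∈ Y.L) : g ∈ (Y.S : Subgroup G) := h.1

theorem L_le_N {g : G} (h : g ∈ Y.L) : g ∈ N := h.2

/-- `L` is a Sylow 2-subgroup of `N`. -/
theorem exists_sylowN : ∃ P : Sylow 2 ↥N, (P : Subgroup ↥N).map N.subtype = Y.L :=
  haveI := Y.fac.normal
  GWD.sylow_of_inter Y.S N

/-- the equivalence between `L` and that Sylow subgroup -/
theorem exists_sylowN_equiv : ∃ (P : Sylow 2 ↥N) (f : ↥(P : Subgroup ↥N) ≃* ↥Y.L),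
    ∀ p : ↥(P : Subgroup ↥N), ((f p : ↥Y.L) : G) = ((p : ↥N) : G) := by
  obtain ⟨P, hP⟩ := Y.exists_sylowN
  exact ⟨P, ((P : Subgroup ↥N).equivMapOfInjective _ N.subtype_injective).trans (MulEquiv.subgroupCongr hP),
    fun p => rfl⟩

theorem mem_sylowN {P : Sylow 2 ↥N} (hP : (P : Subgroup ↥N).map N.subtype = Y.L) (n : ↥N) :
    n ∈ (P : Subgroup ↥N) ↔ (n : G) ∈ Y.L := by
  rw [← hP]
  exact (Subgroup.mem_map_iff_mem N.subtype_injective).symm

/-- A simple group has no nontrivial transfer. -/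
theorem false_of_char (χ : ↥Y.L →* ℤˣ) {σ : G} (hσ : σ ∈ N) {k : ℕ} (ho : orderOf σ = 2 ^ k)
    (hone : ∀ g ∈ N, ∀ h : g⁻¹ * σ * g ∈ Y.L, χ ⟨_, h⟩ ≠ 1)
    (heven : ∀ g ∈ N, ∀ l : ℕ, Even l → ∀ h : g⁻¹ * σ ^ l * g ∈ Y.L, χ ⟨_, h⟩ = 1) : False := by
  haveI : Fact (Nat.Prime 2) := ⟨Nat.prime_two⟩
  haveI := Y.fac.simple
  obtain ⟨P, hP⟩ := Y.exists_sylowN
  let ι : ↥(P : Subgroup ↥N) →* ↥Y.L :=
    MonoidHom.mk' (fun p => ⟨((p : ↥N) : G), (Y.mem_sylowN hP p).1 p.2⟩) fun _ _ => rfl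
  refine Y.fac.nonab (BenderSE.Crit2.isMulCommutative_of_hom (MonoidHom.transfer (χ.comp ι)) (σ := ⟨σ, hσ⟩) ?_)
  rw [BenderSE.Crit2.transfer_eq_of_unit P (χ.comp ι) (σ := (⟨σ, hσ⟩ : ↥N)) (k := k)
    (by rw [Subgroup.orderOf_mk, ho]) (w := (-1 : ℤˣ)) (by simp) ?_ ?_]
  · decide
  · intro g h
    have h' : (g : G)⁻¹ * σ * g ∈ Y.L := (Y.mem_sylowN hP _).1 h
    exact (Int.units_eq_one_or _).resolve_left (hone g g.2 h')
  · intro g l hl h
    have h' : (g : G)⁻¹ * σ ^ l * g ∈ Y.L := (Y.mem_sylowN hP _).1 h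
    exact heven g g.2 l hl h'

include Y in
/-- The simple group has no isolated involution. -/
theorem not_isolated (z' : ↥N) : ¬ Cfsg.IsIsolatedInvolution z' := by
  intro hiso
  haveI := Y.fac.simple
  have hO : Cfsg.pPrimeCore 2 ↥N = ⊥ := by
    refine (IsSimpleGroup.eq_bot_or_eq_top_of_normal _ inferInstance).resolve_right fun h => ?_
    refine Y.fac.not_solvable (Cfsg.Agent.PF.isSolvable_of_odd _ ?_)
    have := ZStarApps.odd_card_pPrimeCore (G := ↥N)
    rwa [h, Subgroup.card_top] at this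
  have hcen : z' ∈ center ↥N := mem_center_iff.2 fun g => by
    have := ZStarApps.zstarProp hiso g
    rw [hO, mem_bot, mul_inv_eq_one, mul_inv_eq_iff_eq_mul] at this
    exact this.symm
  refine Y.fac.nonab ?_
  rcases IsSimpleGroup.eq_bot_or_eq_top_of_normal (center ↥N) inferInstance with h | h
  · rw [h, mem_bot] at hcen
    have := hiso.1
    rw [hcen, orderOf_one] at this
    omega
  · exact ⟨⟨fun a b => mem_center_iff.1 (h ▸ mem_top b) a⟩⟩

/-- An involution of `L` has another conjugate in `L`. -/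
theorem exists_conj_ne {z : G} (hz : z ∈ Y.L) (hz2 : orderOf z = 2) :
    ∃ y ∈ Y.L, y ≠ z ∧ IsConj z y := by
  haveI : Fact (Nat.Prime 2) := ⟨Nat.prime_two⟩
  haveI := Y.fac.simple
  obtain ⟨P, hP⟩ := Y.exists_sylowN
  set z' : ↥N := ⟨z, hz.2⟩ with hz'
  have hzo : orderOf z' = 2 := by rw [hz', Subgroup.orderOf_mk, hz2]
  obtain ⟨g, hcm, hne⟩ : ∃ g : ↥N, Commute z' (g * z' * g⁻¹) ∧ g * z' * g⁻¹ ≠ z' := by
    by_contra hno
    push Not at hno
    exact Y.not_isolated z' ⟨hzo, hno⟩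
  set y' := g * z' * g⁻¹ with hy'
  have hz1 : z' * z' = 1 := by rw [← pow_two, ← hzo, pow_orderOf_eq_one]
  have hy1 : y' * y' = 1 := by
    rw [hy', show g * z' * g⁻¹ * (g * z' * g⁻¹) = g * (z' * z') * g⁻¹ by group, hz1]
    group
  have hT : IsPGroup 2 (closure ({z', y'} : Set ↥N)) := fun t => ⟨1, Subtype.ext (by
    obtain ⟨t, ht⟩ := t
    rw [pow_one]
    show t ^ 2 = 1
    haveI := Subgroup.isMulCommutative_closure (k := ({z', y'} : Set ↥N)) (by
      rintro p (rfl | rfl) q (rfl | rfl)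
      exacts [rfl, hcm.eq, hcm.eq.symm, rfl])
    induction ht using closure_induction with
    | mem s hs => rcases hs with rfl | rfl <;> rw [pow_two] <;> assumption
    | one => exact one_pow 2
    | mul s t hs ht e e' =>
      rw [Commute.mul_pow (congrArg Subtype.val (mul_comm' (⟨s, hs⟩ : closure ({z', y'} : Set ↥N)) ⟨t, ht⟩)),
        e, e', one_mul]
    | inv s _ e => rw [inv_pow, e, inv_one])⟩
  obtain ⟨h, hh⟩ := Fusion.exists_conj_le_sylow P hT
  have h1 := hh z' (subset_closure (Or.inl rfl))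
  have h2 := hh y' (subset_closure (Or.inr rfl))
  have hconj : ∀ t : ↥N, IsConj z' t → IsConj z (t : G) := fun t ht => N.subtype.map_isConj ht
  by_cases he : h * z' * h⁻¹ = z'
  · refine ⟨_, (Y.mem_sylowN hP _).1 h2, fun e => hne ?_, hconj _ (isConj_iff.2 ⟨h * g, by rw [hy']; group⟩)⟩
    have e' : h * y' * h⁻¹ = z' := Subtype.ext e
    exact mul_left_cancel (mul_right_cancel (e'.trans he.symm))
  · exact ⟨_, (Y.mem_sylowN hP _).1 h1, fun e => he (Subtype.ext e), hconj _ (isConj_iff.2 ⟨h, rfl⟩)⟩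

/-- The fusion system of `G` on its Sylow subgroup is not inner. -/
theorem not_inner : ¬ ∀ P : Subgroup G, (Cfsg.groupFusionSystem (Y.S : Subgroup G)).Hom P =
    (Cfsg.innerFusionSystem (Y.S : Subgroup G)).Hom P := by
  intro h
  haveI : Fact (Nat.Prime 2) := ⟨Nat.prime_two⟩
  haveI := Y.fac.simple
  haveI := Y.fac.normal
  obtain ⟨K, hK, hc⟩ := Transfer.exists_complement_of_fusion (Y.S : Subgroup G) Y.S.2.isNilpotent
    Y.S.card_coprime_index (by
    intro x hx g hgx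
    have hle : zpowers x ≤ (Y.S : Subgroup G) := zpowers_le.2 hx
    have hm : Cfsg.conjHom (zpowers x) g ∈ (Cfsg.groupFusionSystem (Y.S : Subgroup G)).Hom (zpowers x) := by
      refine ⟨hle, ?_, g, fun y => rfl⟩
      rintro ⟨_, i, rfl⟩
      show g * x ^ i * g⁻¹ ∈ (Y.S : Subgroup G)
      rw [← conj_zpow]
      exact zpow_mem hgx i
    rw [h] at hm
    obtain ⟨-, v, hv, hv'⟩ := hm
    exact ⟨v, hv, hv' ⟨x, mem_zpowers x⟩⟩)
  haveI := hK
  refine Y.fac.not_solvable ?_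
  rcases IsSimpleGroup.eq_bot_or_eq_top_of_normal (K.subgroupOf N) inferInstance with hb | ht
  · -- `N` embeds in the Sylow group
    let φ : ↥N →* G ⧸ K := (QuotientGroup.mk' K).comp N.subtype
    have hφ : Function.Injective φ := by
      rw [← MonoidHom.ker_eq_bot_iff, ← hb]
      ext n
      simp [φ, Subgroup.mem_subgroupOf]
    have hp : IsPGroup 2 (G ⧸ K) := by
      obtain ⟨m, hm⟩ := IsPGroup.iff_card.1 Y.S.2
      refine IsPGroup.of_card (n := m) ?_
      rw [← Subgroup.index_eq_card, hc.symm.index_eq_card, hm]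
    haveI := (hp.of_injective φ hφ).isNilpotent
    infer_instance
  · have hle : N ≤ K := fun n hn => by
      have := (ht ▸ mem_top (⟨n, hn⟩ : ↥N) : (⟨n, hn⟩ : ↥N) ∈ K.subgroupOf N)
      exact mem_subgroupOf.1 this
    refine Cfsg.Agent.PF.isSolvable_of_odd _ ?_
    have hK2 : Odd (Nat.card K) := by
      rw [← Nat.not_even_iff_odd, even_iff_two_dvd]
      intro h2
      obtain ⟨t, ht'⟩ := exists_prime_orderOf_dvd_card' (G := K) 2 h2
      have h3 := hc.index_eq_card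
      have := Y.S.not_dvd_index
      rw [h3] at this
      exact this h2
    exact hK2.of_dvd_nat (Subgroup.card_dvd_of_le hle)

end Sys

end Cfsg.Lib.CyclicZFactor
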